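import Groth.Agent.StkBG.Torsor
import Groth.Agent.QuotStk.SpQuotStack

/-!
# The diagonal of a classifying stack
-/

set_option autoImplicit false
set_option backward.isDefEq.respectTransparency false
set_option backward.isDefEq.respectTransparency.types false
universe v₂ w₂ v₃ w₃ u

open CategoryTheory CategoryTheory.Limits AlgebraicGeometry Opposite MonoidalCategory CartesianMonoidalCategory

namespace Groth.StkBG

open Groth.StkBase Groth.AlgStBasic

variable {S : Scheme.{u}}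

/-- The diagonal is representable when every map from a scheme is. -/
theorem repByAlgSp1_diag_of_forall {𝒳 : BasedCategory.{u + 1, w₂} (Over S)}
    (h : ∀ (U : Over S) (x : FibCat.overCat U ⥤ᵇ 𝒳), AlgSt.RepByAlgSp1 x) :
    AlgSt.RepByAlgSp1 (FibCat.diag (FibCat.toSelf 𝒳)) := by
  intro W z
  let z₁ := BasedFunctor.comp z (FibCat.fpFst _ _)
  let z₂ := BasedFunctor.comp z (FibCat.fpSnd _ _)
  let Δ := FibCat.diag (FibCat.toSelf (FibCat.overCat W))
  let D := diagFp z₁ z₂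
  have hD : FibCat.IsEquivOver D := isEquivOver_diagFp z₁ z₂
  have hΔ : AlgSt.RepByAlgSp1 Δ :=
    repByAlgSp1_of_repByAlgSp (repByAlgSp_overCat W) (repByAlgSp_prod_overCat W W) _
  have hQ : AlgSt.RepByAlgSp (FibCat.fp z₁ z₂) := h W z₂ W z₁
  have h1 : AlgSt.RepByAlgSp (FibCat.fp
      (BasedFunctor.comp D (FibCat.fpFst (prodMapF z₁ z₂) (FibCat.diag (FibCat.toSelf 𝒳)))) Δ) :=
    repByAlgSp_fp (isFibGrpd_overCat W) (isFibGrpd_selfProd (isFibGrpd_overCat W)) Δ _ hΔ hQ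
  have h1' : AlgSt.RepByAlgSp (FibCat.fp
      (FibCat.fpFst (prodMapF z₁ z₂) (FibCat.diag (FibCat.toSelf 𝒳))) Δ) :=
    repByAlgSp_of_equiv (isEquivOver_fpPre hD (isEquivOver_id _)
      (FibCat.fpFst (prodMapF z₁ z₂) (FibCat.diag (FibCat.toSelf 𝒳))) Δ) h1
  have h2 := repByAlgSp_of_equiv (isEquivOver_fpPaste Δ (prodMapF z₁ z₂) (FibCat.diag (FibCat.toSelf 𝒳)))
    (repByAlgSp_of_equiv (isEquivOver_fpSwap _ _) h1')
  have α : BasedFunctor.comp Δ (prodMapF z₁ z₂) ≅ z :=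
    fpIsoMk (Iso.refl _) (Iso.refl _) fun _ =>
      self_ext ((isVert_map (isVert_id _)).comp (fp_isVert _))
        ((fp_isVert _).comp (isVert_map (isVert_id _)))
  exact repByAlgSp_of_equiv (isEquivOver_fpCongr α (Iso.refl _)) h2

/-- Local lifts to a map give local lifts to its square. -/
theorem covLift_prodMapF {𝒜 : BasedCategory.{v₃, w₃} (Over S)} {𝒳 : BasedCategory.{v₂, w₂} (Over S)}
    {q : 𝒜 ⥤ᵇ 𝒳} (hq : CovLift q) : CovLift (prodMapF q q) := by
  intro U y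
  obtain ⟨U₁, j₁, w₁, hj₁, ⟨α₁⟩⟩ := hq U (BasedFunctor.comp y (FibCat.fpFst _ _))
  obtain ⟨U₂, j₂, w₂, hj₂, ⟨α₂⟩⟩ :=
    hq U₁ (BasedFunctor.comp (AlgSt.overMap j₁) (BasedFunctor.comp y (FibCat.fpSnd _ _)))
  have hj : IsCov (j₂ ≫ j₁) := by
    obtain ⟨h₁, h₂, h₃⟩ := hj₁
    obtain ⟨h₁', h₂', h₃'⟩ := hj₂
    exact ⟨inferInstanceAs (Flat (j₂.left ≫ _)), inferInstanceAs (LocallyOfFinitePresentation (j₂.left ≫ _)),
      inferInstanceAs (Surjective (j₂.left ≫ _))⟩
  obtain ⟨γ⟩ := nonempty_overMap_comp_iso j₂ j₁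
  refine ⟨U₂, j₂ ≫ j₁, FibCat.fpLift (BasedFunctor.comp (AlgSt.overMap j₂) w₁) w₂ (selfIso _ _), hj, ⟨?_⟩⟩
  exact fpIsoMk ((whiskerLeftIso (AlgSt.overMap j₂) α₁).trans (Groth.StkBase.whiskerRightIso γ (BasedFunctor.comp y (FibCat.fpFst (FibCat.toSelf 𝒳) (FibCat.toSelf 𝒳)))))
    (α₂.trans (Groth.StkBase.whiskerRightIso γ (BasedFunctor.comp y (FibCat.fpSnd (FibCat.toSelf 𝒳) (FibCat.toSelf 𝒳))))) fun _ =>
      self_ext ((isVert_map (isVert_isoApp _ _)).comp (fp_isVert _))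
        ((fp_isVert _).comp (isVert_map (isVert_isoApp _ _)))

/-- Maps to a category equivalent to the base are isomorphic. -/
noncomputable def isoOfToSelf {𝒲 : BasedCategory.{v₃, w₃} (Over S)} {𝒳 : BasedCategory.{v₂, w₂} (Over S)}
    (h : FibCat.IsEquivOver (FibCat.toSelf 𝒳)) (a b : 𝒲 ⥤ᵇ 𝒳) : a ≅ b :=
  have i := h.choose_spec.1.some
  (Groth.StkBase.whiskerLeftIso a i).symm.trans
    ((Groth.StkBase.whiskerRightIso (selfIso (BasedFunctor.comp a (FibCat.toSelf 𝒳))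
      (BasedFunctor.comp b (FibCat.toSelf 𝒳))) h.choose).trans (Groth.StkBase.whiskerLeftIso b i))

section BG

variable {B : AlgSp.Sp S} {G : Over B} [GrpObj G]

local notation "BG₀" => AlgSt.SpBG Scheme.fppfPrecoverage G
local notation "q₀" => AlgSt.spQuotMap Scheme.fppfPrecoverage G (AlgSt.trivGAction G)

/-- The diagonal of a classifying stack of a group algebraic space is representable. -/
theorem repByAlgSp1_diag_spBG (hB : AlgSp.IsAlgSpace B) (hG : AlgSp.IsAlgSpace G.left) :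
    AlgSt.RepByAlgSp1 (FibCat.diag (FibCat.toSelf BG₀)) := by
  refine repByAlgSp1_diag_of_forall fun U x => ?_
  have hU := repByAlgSp_overCat U
  have hBr : AlgSt.RepByAlgSp (AlgSt.ofSp B) := ⟨⟨B, hB⟩, BasedFunctor.id _, isEquivOver_id _⟩
  refine repByAlgSp1_of_covLift (isFibSetoid_of_repByAlgSp hU) (isStack_of_repByAlgSp hU)
    (Groth.QuotStk.isStack_spQuotSt G (AlgSt.trivGAction G)) x (covLift_spQuotMap _) fun V w => ?_
  have h1 : AlgSt.RepByAlgSp (FibCat.fp x q₀) := repByAlgSp1_spQuotMap _ hB hG U x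
  have h2 : AlgSt.RepByAlgSp (FibCat.fp (FibCat.fpSnd x q₀) w) :=
    repByAlgSp_fp (isFibGrpd_overCat V) (isFibGrpd_of_repByAlgSp hBr) w _
      (repByAlgSp1_of_repByAlgSp (repByAlgSp_overCat V) hBr w) h1
  have h3 := repByAlgSp_of_equiv (isEquivOver_fpSwap (FibCat.fpSnd x q₀) w) h2
  exact repByAlgSp_of_equiv (isEquivOver_fpPre (a := BasedFunctor.id _) (b := fpSwap x q₀)
    (isEquivOver_id _) (isEquivOver_fpSwap x q₀) w (FibCat.fpFst q₀ x)) h3

end BG

/-- Over the base scheme every property of the group which is stable under base change and fppf local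
on the base passes to the diagonal of the classifying stack. -/
theorem repWith_diag_spBG {G : Over ((AlgSp.yon S).obj (Over.mk (𝟙 S)))} [GrpObj G]
    (hG : AlgSp.IsAlgSpace G.left) {P : MorphismProperty (AlgSp.Sp S)} [P.IsStableUnderBaseChange]
    (hloc : AlgSp.IsLocalOnBase AlgSp.IsFppfCover P) (hP : P G.hom) :
    AlgSt.RepByAlgSpWith P (FibCat.diag (FibCat.toSelf (AlgSt.SpBG Scheme.fppfPrecoverage G))) := by
  have : P.RespectsIso := MorphismProperty.IsStableUnderBaseChange.respectsIso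
  let q := AlgSt.spQuotMap Scheme.fppfPrecoverage G (AlgSt.trivGAction G)
  let Δ := FibCat.diag (FibCat.toSelf (AlgSt.SpBG Scheme.fppfPrecoverage G))
  let A := AlgSt.ofSch (Over.mk (𝟙 S))
  have hB := AlgSp.IsAlgSpace.yon_obj (Over.mk (𝟙 S))
  have hT : ∀ W, Nonempty (Unique (((AlgSp.pyon S).obj (Over.mk (𝟙 S))).obj W)) := fun W =>
    ⟨⟨⟨⟨Over.homMk W.unop.hom (by simp)⟩⟩, fun x => by
      apply ULift.ext
      apply Over.OverMorphism.ext
      have := Over.w x.down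
      simpa using this⟩⟩
  have hA : FibCat.IsEquivOver (FibCat.toSelf A) := isEquivOver_toSelf_ofPsh_of_unique _ hT
  refine repWith_of_covLift hloc (repByAlgSp1_diag_spBG hB hG) (W := prodMapF q q)
    (covLift_prodMapF (covLift_spQuotMap _)) ?_
  have := full_of_isEquivOver hA
  have := faithful_of_isEquivOver hA
  have hΔA : FibCat.IsEquivOver (FibCat.diag (FibCat.toSelf A)) := isEquivOver_diag _
  have hq : AlgSt.RepByAlgSpWith P (FibCat.fpFst q q) :=
    repWith_fpFst q q (repWith_spQuotMap _ hB hG hloc hP)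
  refine (repWith_precomp_equiv (isEquivOver_diagFp q q) _).1 (repWith_of_iso ?_
    ((repWith_postcomp_equiv (FibCat.fpFst q q) hΔA).2 hq))
  refine fpIsoMk (Iso.refl _) ?_ fun _ => self_ext ((isVert_map (isVert_isoApp _ _)).comp (fp_isVert _))
    ((fp_isVert _).comp (isVert_map (isVert_isoApp _ _)))
  exact isoOfToSelf hA _ _

end Groth.StkBG
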