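import Groth.Agent.FppfBoot.Bootstrap
import Groth.Agent.AlgStBasic.RepStack
import Groth.Agent.AlgStBasic.PropDescend
import Groth.Agent.AlgStBasic.RepCriteria

/-!
# Descending representability and properties along local lifts

The versions here allow the target category to live in a larger universe.
-/

set_option autoImplicit false
set_option backward.isDefEq.respectTransparency false
set_option backward.isDefEq.respectTransparency.types false

universe v₂ w₂ v₃ w₃ v₄ w₄ u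

open CategoryTheory CategoryTheory.Limits AlgebraicGeometry Opposite

namespace Groth.StkBG

open Groth.StkBase Groth.AlgStBasic Groth.AlgSpBasic

variable {S : Scheme.{u}}

/-- A flat, locally finitely presented, surjective morphism of schemes over `S`. -/
structure IsCov {U' U : Over S} (j : U' ⟶ U) : Prop where
  flat : Flat j.left
  lfp : LocallyOfFinitePresentation j.left
  surj : Surjective j.left

/-- A sheaf over a scheme which becomes an algebraic space over a cover is an algebraic space. -/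
theorem isAlgSpace_of_cover {F : AlgSp.Sp S} {U' U : Over S} {j : U' ⟶ U} (hj : IsCov j)
    (m : F ⟶ (AlgSp.yon S).obj U) (h : AlgSp.IsAlgSpace (pullback m ((AlgSp.yon S).map j))) :
    AlgSp.IsAlgSpace F := by
  let R : MorphismProperty Scheme.{u} := @Flat ⊓ @LocallyOfFinitePresentation ⊓ @Surjective
  have hR : AlgSp.RepWith R (pullback.fst m ((AlgSp.yon S).map j)) :=
    repWith_of_isPullback (IsPullback.of_hasPullback m ((AlgSp.yon S).map j)).flip
      ((AlgSp.repWith_yon_map_iff R j).2 ⟨⟨hj.flat, hj.lfp⟩, hj.surj⟩)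
  exact Groth.FppfBoot.isAlgSpace_of_fppf_cover
    (X := ⟨pullback m ((AlgSp.yon S).map j), h⟩) (p := pullback.fst m ((AlgSp.yon S).map j))
    (repBySpWith_of_repWith hR fun F' V snd hsnd =>
      ⟨⟨surjective_map_of_repWith (repWith_mono (fun _ _ _ h => h.2) hsnd),
        locP_of_repWith (repWith_mono (fun _ _ _ h => h.1.1) hsnd)⟩,
        locP_of_repWith (repWith_mono (fun _ _ _ h => h.1.2) hsnd)⟩)

/-- The fibre product of a map to a scheme with a morphism of schemes, as a category. -/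
theorem exists_equiv_pullback {𝒵 : BasedCategory.{v₄, w₄} (Over S)} {U' U : Over S} (j : U' ⟶ U)
    (π : 𝒵 ⥤ᵇ FibCat.overCat U) {F : AlgSp.Sp S} (e : AlgSt.ofSp F ⥤ᵇ 𝒵) (he : FibCat.IsEquivOver e) :
    ∃ E : FibCat.fp (overMapOf ((AlgSp.pyon S).map j))
        (Stk.ofPshMap (AlgSt.spMapOfOver (BasedFunctor.comp e π)).hom) ⥤ᵇ
        FibCat.fp (AlgSt.overMap j) π,
      FibCat.IsEquivOver E ∧
      Nonempty (BasedFunctor.comp E (FibCat.fpFst _ _) ≅ FibCat.fpFst _ _) := by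
  have hT := isEquivOver_toOverCat U
  have := full_of_isEquivOver hT
  have := faithful_of_isEquivOver hT
  let T := AlgSt.toOverCat U
  let m := AlgSt.spMapOfOver (BasedFunctor.comp e π)
  let ξ := overMapOf ((AlgSp.pyon S).map j)
  obtain ⟨β⟩ := nonempty_iso_pshMapOf
    (BasedFunctor.comp (BasedFunctor.comp e π) (AlgSt.ofOverCat U))
  have γ : BasedFunctor.comp (Stk.ofPshMap m.hom) T ≅ BasedFunctor.comp e π := by
    have γ' : Stk.ofPshMap m.hom ≅ BasedFunctor.comp (BasedFunctor.comp e π) (AlgSt.ofOverCat U) :=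
      (eqToIso (congrArg Stk.ofPshMap (spMapOfOver_hom_eq _))).trans β.symm
    exact whiskerRightIso γ' T
  obtain ⟨δ⟩ := nonempty_overMapOf_iso j
  refine ⟨BasedFunctor.comp (fpPost ξ (Stk.ofPshMap m.hom) T) (BasedFunctor.comp (fpCongr δ γ)
      (fpPre (BasedFunctor.id _) e (AlgSt.overMap j) π)),
    isEquivOver_comp (isEquivOver_fpPost ξ _ T) (isEquivOver_comp (isEquivOver_fpCongr δ γ)
      (isEquivOver_fpPre (isEquivOver_id _) he _ _)), ⟨Iso.refl _⟩⟩

/-- A setoid stack over a scheme which becomes an algebraic space over a cover is an algebraic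
space. -/
theorem repByAlgSp_of_cover {𝒵 : AlgSt.Cat S} (hS : FibCat.IsFibSetoid 𝒵.p)
    (hst : Stk.IsStack (AlgSp.J S) 𝒵) {U' U : Over S} {j : U' ⟶ U} (hj : IsCov j)
    (π : 𝒵 ⥤ᵇ FibCat.overCat U) (h : AlgSt.RepByAlgSp (FibCat.fp (AlgSt.overMap j) π)) :
    AlgSt.RepByAlgSp 𝒵 := by
  obtain ⟨P, e, he⟩ := exists_ofPsh_equiv hS
  have hP : Presheaf.IsSheaf (AlgSp.J S) P :=
    (isSheaf_iff_isSheaf_of_type _ _).2 ((isStack_ofPsh_iff P (AlgSp.J S)).1
      ((isStack_iff_of_isEquivOver (AlgSp.J S) he).2 hst))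
  let F : AlgSp.Sp S := ⟨P, hP⟩
  let m := AlgSt.spMapOfOver (F := F) (BasedFunctor.comp e π)
  obtain ⟨E, hE, -⟩ := exists_equiv_pullback j π (F := F) e he
  obtain ⟨X, x, hx⟩ := h
  have sq := (IsPullback.of_hasPullback m ((AlgSp.yon S).map j)).map
    (sheafToPresheaf (AlgSp.J S) (Type (u + 1)))
  obtain ⟨E', hE', -⟩ := isEquivOver_symm (isEquivOver_comp (isEquivOver_fpOfMap sq.flip) hE)
  have := isIso_pshMapOf (isEquivOver_comp hx hE')
  let φ : X.obj ⟶ pullback m ((AlgSp.yon S).map j) :=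
    ObjectProperty.homMk (pshMapOf (BasedFunctor.comp x E'))
  have : IsIso ((sheafToPresheaf (AlgSp.J S) (Type (u + 1))).map φ) := this
  have : IsIso φ := isIso_of_fully_faithful (sheafToPresheaf (AlgSp.J S) (Type (u + 1))) φ
  exact ⟨⟨F, isAlgSpace_of_cover hj m (X.property.of_iso (asIso φ))⟩, e, he⟩

/-- Every map from a scheme lifts along `W` after passing to a cover. -/
def CovLift {𝒲 : BasedCategory.{v₃, w₃} (Over S)} {𝒴 : BasedCategory.{v₂, w₂} (Over S)}
    (W : 𝒲 ⥤ᵇ 𝒴) : Prop :=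
  ∀ (U : Over S) (y : FibCat.overCat U ⥤ᵇ 𝒴), ∃ (U' : Over S) (j : U' ⟶ U) (w : FibCat.overCat U' ⥤ᵇ 𝒲),
    IsCov j ∧ Nonempty (BasedFunctor.comp w W ≅ BasedFunctor.comp (AlgSt.overMap j) y)

/-- Representability descends along local lifts. -/
theorem repByAlgSp1_of_covLift {𝒳 : AlgSt.Cat S} {𝒲 : BasedCategory.{v₃, w₃} (Over S)}
    {𝒴 : BasedCategory.{u + 1, w₂} (Over S)} (hXs : FibCat.IsFibSetoid 𝒳.p)
    (hX : Stk.IsStack (AlgSp.J S) 𝒳) (hY : Stk.IsStack (AlgSp.J S) 𝒴) (f : 𝒳 ⥤ᵇ 𝒴)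
    {W : 𝒲 ⥤ᵇ 𝒴} (hW : CovLift W) (h : AlgSt.RepByAlgSp1 (FibCat.fpFst W f)) :
    AlgSt.RepByAlgSp1 f := by
  intro U y
  obtain ⟨U', j, w, hj, ⟨α⟩⟩ := hW U y
  have hU := repByAlgSp_overCat U
  refine repByAlgSp_of_cover (fp_isFibSetoid (isFibSetoid_of_repByAlgSp hU) hXs hY.1)
    (isStack_fp _ (isStack_of_repByAlgSp hU) hX (isPrestack_of_isStack hY)) hj (FibCat.fpFst y f) ?_
  obtain ⟨E, hE, -⟩ := isEquivOver_symm
    (isEquivOver_fpPaste (AlgSt.overMap j) y f)
  exact repByAlgSp_of_equiv (isEquivOver_comp (isEquivOver_fpPaste w W f)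
    (isEquivOver_comp (isEquivOver_fpCongr α (Iso.refl f)) hE)) (h U' w)

/-- A property local for fppf covers descends along local lifts. -/
theorem repWith_of_covLift {P : MorphismProperty (AlgSp.Sp S)} [P.RespectsIso]
    (hP : AlgSp.IsLocalOnBase AlgSp.IsFppfCover P) {𝒳 : BasedCategory.{v₄, w₄} (Over S)}
    {𝒲 : BasedCategory.{v₃, w₃} (Over S)} {𝒴 : BasedCategory.{v₂, w₂} (Over S)}
    {f : 𝒳 ⥤ᵇ 𝒴} (hf : AlgSt.RepByAlgSp1 f) {W : 𝒲 ⥤ᵇ 𝒴} (hW : CovLift W)
    (h : AlgSt.RepByAlgSpWith P (FibCat.fpFst W f)) : AlgSt.RepByAlgSpWith P f := by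
  intro U y
  obtain ⟨F, e, he⟩ := hf U y
  refine ⟨F, e, he, ?_⟩
  let m := AlgSt.spMapOfOver (BasedFunctor.comp e (FibCat.fpFst y f))
  obtain ⟨U', j, w, hj, ⟨α⟩⟩ := hW U y
  have hy : RepFst P (FibCat.fpFst (BasedFunctor.comp (AlgSt.overMap j) y) f) :=
    RepFst.of_equiv (isEquivOver_comp (isEquivOver_fpPaste w W f)
      (isEquivOver_fpCongr α (Iso.refl f))) (Iso.refl _) (h U' w)
  obtain ⟨E₁, hE₁, ⟨β₁⟩⟩ := exists_equiv_pullback j (FibCat.fpFst y f) e he
  have hE := isEquivOver_comp hE₁ (isEquivOver_fpPaste (AlgSt.overMap j) y f)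
  obtain ⟨E', hE', -, ⟨b⟩⟩ := isEquivOver_symm hE
  have hkey : RepFst P (FibCat.fpFst (overMapOf ((AlgSp.pyon S).map j)) (Stk.ofPshMap m.hom)) :=
    RepFst.of_equiv hE' ((whiskerLeftIso E' β₁.symm).trans (whiskerRightIso b (FibCat.fpFst _ _))) hy
  refine (hP (fun _ : PUnit.{u + 1} => (AlgSp.yon S).obj U') (fun _ => (AlgSp.yon S).map j)
    (AlgSp.IsAlgSpace.yon_obj U) (fun _ => AlgSp.IsAlgSpace.yon_obj _) ?_ m F.property
    (fun _ => pullback m ((AlgSp.yon S).map j)) (fun _ => pullback.snd _ _)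
    (fun _ => pullback.fst _ _) (fun _ => isAlgSpace_of_isPullback (IsPullback.of_hasPullback _ _)
      (AlgSp.IsAlgSpace.yon_obj U).diag F.property (AlgSp.IsAlgSpace.yon_obj U'))
    (fun _ => IsPullback.of_hasPullback _ _)).2 fun _ => ?_
  · refine ⟨fun _ => ⟨locP_of_repWith ((AlgSp.repWith_yon_map_iff _ _).2 hj.flat),
      locP_of_repWith ((AlgSp.repWith_yon_map_iff _ _).2 hj.lfp)⟩, fun x => ?_⟩
    exact ⟨PUnit.unit, surjective_map_of_repWith ((AlgSp.repWith_yon_map_iff _ _).2 hj.surj) x⟩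
  · exact prop_snd_of_repFst
      ((IsPullback.of_hasPullback m ((AlgSp.yon S).map j)).map
        (sheafToPresheaf (AlgSp.J S) (Type (u + 1))))
      (pullback m ((AlgSp.yon S).map j)).property hkey

end Groth.StkBG
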