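import Groth.Agent.QuotStk.SpQuotFib
import Groth.Agent.StkBase.FibProd
import Groth.Agent.StkBase.Psh
import Groth.Agent.StkBase.Yoneda

/-!
# The fibres of the canonical map to a quotient stack of sheaf torsors
-/

set_option autoImplicit false
set_option backward.isDefEq.respectTransparency false
set_option backward.isDefEq.respectTransparency.types false
universe u

open CategoryTheory CategoryTheory.Limits AlgebraicGeometry Opposite AlgSp MonoidalCategory CartesianMonoidalCategory
open CategoryTheory.MonObj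
open Groth.StkBase (IsVert idObj toId map_map fpMk fpHom fpObjIso fp_isVert fp_hom_ext exists_vert_iso_of_lifts
  hom_eq_of_comp_eq)
open scoped CategoryTheory.Obj

namespace Groth.StkBG

open Groth.AlgSpBasic (yEquiv)

noncomputable section

variable {S : Scheme.{u}} {B : Sp S}

/-- A section read as a map from a representable sheaf. -/
abbrev pt {F : Sp S} (a : (AlgSt.ofSp F).obj) : (yon S).obj a.base ⟶ F :=
  yEquiv.symm a.sec

theorem pt_comp {F : Sp S} {a a' : (AlgSt.ofSp F).obj} (f : a ⟶ a') :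
    (yon S).map f.hom ≫ pt a' = pt a := by
  change (J S).uliftYoneda.map f.hom ≫ ((J S).uliftYonedaEquiv).symm a'.sec = _
  rw [GrothendieckTopology.uliftYonedaEquiv_symm_naturality_left, f.map_sec]

theorem pt_map {F F' : Sp S} (φ : F ⟶ F') (a : (AlgSt.ofSp F).obj) :
    pt ((AlgSt.ofSpMap φ).obj a) = pt a ≫ φ := by
  apply yEquiv.injective
  refine (Equiv.apply_symm_apply _ _).trans ?_
  refine Eq.trans ?_ ((J S).uliftYonedaEquiv_comp _ _).symm
  exact (congrArg (φ.hom.app _) (Equiv.apply_symm_apply _ _)).symm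

theorem sec_of_pt {F : Sp S} {a a' : (AlgSt.ofSp F).obj} (k : a.base ⟶ a'.base)
    (h : (yon S).map k ≫ pt a' = pt a) : F.obj.map k.op a'.sec = a.sec := by
  apply (yEquiv (U := a.base) (F := F)).symm.injective
  refine Eq.trans ?_ h
  change _ = (J S).uliftYoneda.map k ≫ ((J S).uliftYonedaEquiv).symm a'.sec
  rw [GrothendieckTopology.uliftYonedaEquiv_symm_naturality_left]

variable {G : Over B} [GrpObj G] {X : Over B} {aX : GAction G X}

local notation "Q₀" => AlgSt.SpQuotSt Scheme.fppfPrecoverage G aX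
local notation "QS" => AlgSt.SpQuotObj Scheme.fppfPrecoverage G aX

variable (G) in
/-- The unit section of a trivial torsor. -/
def unitSec (T : Over B) : T ⟶ G ⊗ T := lift (toUnit T ≫ η[G]) (𝟙 T)

theorem unitSec_snd (T : Over B) : unitSec G T ≫ snd G T = 𝟙 T := lift_snd _ _

theorem unitSec_naturality {T' T : Over B} (k : T' ⟶ T) : unitSec G T' ≫ (G ◁ k) = k ≫ unitSec G T := by
  apply CartesianMonoidalCategory.hom_ext
  · simp [unitSec]
  · simp [unitSec]

theorem unitSec_act {Y T : Over B} (a : GAction G Y) (σ : T ⟶ Y) :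
    unitSec G T ≫ (G ◁ σ) ≫ a.act = σ := by
  have e : unitSec G T ≫ (G ◁ σ) = lift (toUnit T) σ ≫ (η[G] ▷ Y) := by
    apply CartesianMonoidalCategory.hom_ext <;> simp [unitSec]
  rw [← Category.assoc, e, Category.assoc, a.one_act, leftUnitor_hom, lift_snd]

theorem leftMul_eqv {Y T : Over B} (a : GAction G Y) (t : T ⟶ Y) :
    (AlgSt.spLeftMul G T).act ≫ (G ◁ t) ≫ a.act = (G ◁ ((G ◁ t) ≫ a.act)) ≫ a.act := by
  have hμ : fst (G ⊗ G) Y ≫ μ[G] = (fst _ _ ≫ fst G G) * (fst _ _ ≫ snd G G) := by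
    rw [Hom.mul_def, ← comp_lift, lift_fst_snd, Category.comp_id]
  have h : (AlgSt.spLeftMul G T).act ≫ (G ◁ t) =
      (G ◁ (G ◁ t)) ≫ (α_ G G Y).inv ≫ (μ[G] ▷ Y) := by
    apply CartesianMonoidalCategory.hom_ext
    · simp only [AlgSt.spLeftMul, Category.assoc, lift_fst, lift_snd, lift_fst_assoc, lift_snd_assoc, comp_lift, comp_mul, whiskerLeft_fst, whiskerLeft_snd, whiskerLeft_fst_assoc, whiskerLeft_snd_assoc, whiskerRight_fst, whiskerRight_snd, whiskerRight_fst_assoc, whiskerRight_snd_assoc, associator_inv_fst_fst, associator_inv_fst_snd, associator_inv_snd, associator_inv_fst_fst_assoc, associator_inv_fst_snd_assoc, associator_inv_snd_assoc, hμ]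
    · simp only [AlgSt.spLeftMul, Category.assoc, lift_fst, lift_snd, lift_fst_assoc, lift_snd_assoc, comp_lift, comp_mul, whiskerLeft_fst, whiskerLeft_snd, whiskerLeft_fst_assoc, whiskerLeft_snd_assoc, whiskerRight_fst, whiskerRight_snd, whiskerRight_fst_assoc, whiskerRight_snd_assoc, associator_inv_fst_fst, associator_inv_fst_snd, associator_inv_snd, associator_inv_fst_fst_assoc, associator_inv_fst_snd_assoc, associator_inv_snd_assoc]
  have hm : (G ◁ a.act) ≫ a.act = (α_ G G Y).inv ≫ (μ[G] ▷ Y) ≫ a.act := by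
    rw [a.mul_act, Iso.inv_hom_id_assoc]
  rw [MonoidalCategory.whiskerLeft_comp, Category.assoc, hm, reassoc_of% h]

variable (aX) in
/-- The canonical map, at an object. -/
abbrev trivAt (a : (AlgSt.ofSp X.left).obj) : QS :=
  (AlgSt.spQuotMap Scheme.fppfPrecoverage G aX).obj a

/-- The point as a morphism over the base sheaf. -/
def ptO {a : (AlgSt.ofSp X.left).obj} {A : QS} (h : trivAt aX a ⟶ A) :
    Over.mk (AlgSt.secYon a ≫ X.hom) ⟶ A.P :=
  unitSec G _ ≫ h.top

theorem ptO_π {a : (AlgSt.ofSp X.left).obj} {A : QS} (h : trivAt aX a ⟶ A) :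
    (ptO h).left ≫ A.π.left = (yon S).map h.base := by
  have e : h.top ≫ A.π = snd G (Over.mk (AlgSt.secYon a ≫ X.hom)) ≫ AlgSt.bHom h.base h.wb := h.cart.w
  have e' : ptO h ≫ A.π = AlgSt.bHom h.base h.wb := by
    rw [ptO, Category.assoc, e, ← Category.assoc, unitSec_snd, Category.id_comp]
  exact congrArg (·.left) e'

theorem ptO_φ {a : (AlgSt.ofSp X.left).obj} {A : QS} (h : trivAt aX a ⟶ A) :
    (ptO h).left ≫ A.φ.left = pt a := by
  have e : h.top ≫ A.φ = (G ◁ AlgSt.secOver a) ≫ aX.act := h.wφ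
  have e' : ptO h ≫ A.φ = AlgSt.secOver a := by
    rw [ptO, Category.assoc, e]
    exact unitSec_act aX _
  exact congrArg (·.left) e'

theorem top_eq_of_ptO {a : (AlgSt.ofSp X.left).obj} {A : QS} (h : trivAt aX a ⟶ A) :
    h.top = (G ◁ ptO h) ≫ A.act.act := by
  let T := Over.mk (AlgSt.secYon a ≫ X.hom)
  have e : (AlgSt.spLeftMul G T).act ≫ h.top = (G ◁ h.top) ≫ A.act.act := h.eqv
  have hj : (G ◁ unitSec G T) ≫ (AlgSt.spLeftMul G T).act = 𝟙 _ := by
    apply CartesianMonoidalCategory.hom_ext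
    · simp only [unitSec, AlgSt.spLeftMul, Category.assoc, lift_fst, comp_mul, whiskerLeft_fst, whiskerLeft_snd_assoc,
        Category.id_comp]
      rw [← Category.assoc (snd G T), toUnit_unique (snd G T ≫ toUnit T) (toUnit _), ← Hom.one_def,
        _root_.mul_one]
    · simp only [unitSec, AlgSt.spLeftMul, Category.assoc, lift_snd, whiskerLeft_snd_assoc, Category.comp_id,
        Category.id_comp]
  have e₁ := congrArg ((G ◁ unitSec G T) ≫ ·) e
  simp only [← Category.assoc, hj, ← MonoidalCategory.whiskerLeft_comp] at e₁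
  exact (Category.id_comp _).symm.trans e₁

theorem hom_ext_of_ptO {a : (AlgSt.ofSp X.left).obj} {A : QS} {h h' : trivAt aX a ⟶ A}
    (hp : (ptO h).left = (ptO h').left) : h = h' := by
  have hb : h.base = h'.base := (yon S).map_injective (by rw [← ptO_π, ← ptO_π, hp])
  exact AlgSt.SpQuotObj.hom_ext hb
    (by rw [top_eq_of_ptO h, top_eq_of_ptO h', Over.OverMorphism.ext hp])

theorem exists_homOfPt {a : (AlgSt.ofSp X.left).obj} (A : QS) (σ : (yon S).obj a.base ⟶ A.P.left)
    (hσ : σ ≫ A.φ.left = pt a) :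
    ∃ h : trivAt aX a ⟶ A, (ptO h).left = σ := by
  let σo : Over.mk (AlgSt.secYon a ≫ X.hom) ⟶ A.P := Over.homMk σ (by
    rw [← Over.w A.φ, ← Category.assoc, hσ]
    rfl)
  let k := (yon S).preimage (σ ≫ A.π.left)
  have hk : (yon S).map k = σ ≫ A.π.left := (yon S).map_preimage _
  have wb : (yon S).map k ≫ A.b = AlgSt.secYon a ≫ X.hom := by
    rw [hk, Category.assoc]
    exact (congrArg (σ ≫ ·) (Over.w A.π)).trans (Over.w σo)
  have hσπ : σo ≫ A.π = AlgSt.bHom k wb := Over.OverMorphism.ext hk.symm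
  refine ⟨{ base := k, wb := wb, top := (G ◁ σo) ≫ A.act.act, eqv := leftMul_eqv A.act σo,
            cart := hσπ ▸ (AlgSt.isPullback_whiskerLeft' (G := G) σo).paste_horiz A.cart
            wφ := ?_ }, ?_⟩
  · show ((G ◁ σo) ≫ A.act.act) ≫ A.φ = (G ◁ AlgSt.secOver a) ≫ aX.act
    rw [Category.assoc, A.eqv, ← MonoidalCategory.whiskerLeft_comp_assoc,
      show σo ≫ A.φ = AlgSt.secOver a from Over.OverMorphism.ext hσ]
  · exact congrArg (·.left) (unitSec_act A.act σo)

/-- The morphism from a trivial torsor given by a point. -/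
def homOfPt {a : (AlgSt.ofSp X.left).obj} (A : QS) (σ : (yon S).obj a.base ⟶ A.P.left)
    (hσ : σ ≫ A.φ.left = pt a) : trivAt aX a ⟶ A :=
  (exists_homOfPt A σ hσ).choose

theorem ptO_homOfPt {a : (AlgSt.ofSp X.left).obj} (A : QS) (σ : (yon S).obj a.base ⟶ A.P.left)
    (hσ : σ ≫ A.φ.left = pt a) : (ptO (homOfPt A σ hσ)).left = σ :=
  (exists_homOfPt A σ hσ).choose_spec

theorem ptO_map_comp {a a' : (AlgSt.ofSp X.left).obj} (f : a ⟶ a') {A : QS} (h : trivAt aX a' ⟶ A) :
    (ptO ((AlgSt.spQuotMap Scheme.fppfPrecoverage G aX).map f ≫ h)).left =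
      (yon S).map f.hom ≫ (ptO h).left := by
  have w : (yon S).map f.hom ≫ AlgSt.secYon a' ≫ X.hom = AlgSt.secYon a ≫ X.hom := by
    rw [← Category.assoc, AlgSt.secYon_comp]
  have e : ptO ((AlgSt.spQuotMap Scheme.fppfPrecoverage G aX).map f ≫ h) = AlgSt.bHom f.hom w ≫ ptO h := by
    show unitSec G _ ≫ (G ◁ AlgSt.bHom f.hom w) ≫ h.top = _
    rw [← Category.assoc, unitSec_naturality, Category.assoc]
    rfl
  exact congrArg (·.left) e

section Fibre

variable {U : Over S} (y : FibCat.overCat U ⥤ᵇ AlgSt.SpQuotSt Scheme.fppfPrecoverage G aX)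

/-- The torsor classified by `y`. -/
abbrev torsor : QS := y.obj (idObj U)

theorem torsor_base : (torsor y).base = U := y.w_obj (idObj U)

/-- Its structure map to `U`. -/
def torsorπ : (torsor y).P.left ⟶ (yon S).obj U :=
  (torsor y).π.left ≫ (yon S).map (eqToHom (torsor_base y))

/-- The point of `U` under a point of the torsor. -/
def toU (a : (AlgSt.ofSp (torsor y).P.left).obj) : a.base ⟶ U :=
  (yon S).preimage (pt a ≫ torsorπ y)

theorem map_toU (a : (AlgSt.ofSp (torsor y).P.left).obj) :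
    (yon S).map (toU y a) = pt a ≫ torsorπ y := (yon S).map_preimage _

theorem toU_comp {a b : (AlgSt.ofSp (torsor y).P.left).obj} (f : a ⟶ b) :
    f.hom ≫ toU y b = toU y a :=
  (yon S).map_injective (by rw [Functor.map_comp, map_toU, map_toU, ← Category.assoc, pt_comp])

theorem map_toId_base (g : (FibCat.overCat U).obj) :
    (y.map (toId g)).base = eqToHom (y.w_obj g) ≫ g.hom ≫ eqToHom (torsor_base y).symm :=
  map_map y (toId g)

theorem exists_fibre_iso (a : (AlgSt.ofSp (torsor y).P.left).obj) :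
    ∃ i : y.obj (Over.mk (toU y a)) ≅ trivAt aX ((AlgSt.ofSpMap (torsor y).φ.left).obj a),
      IsVert (Q₀).p i.hom ∧
      i.hom ≫ homOfPt (a := (AlgSt.ofSpMap (torsor y).φ.left).obj a) (torsor y) (pt a) (pt_map (torsor y).φ.left a).symm =
        y.map (toId (Over.mk (toU y a))) := by
  refine exists_vert_iso_of_lifts (Groth.QuotStk.isFibGrpd_spQuotSt G aX) _ _ (y.w_obj (Over.mk (toU y a))) ?_
  refine (map_toId_base y _).trans (congrArg (eqToHom _ ≫ ·) ?_)
  apply (yon S).map_injective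
  refine (Functor.map_comp (yon S) _ _).trans ?_
  show _ = (yon S).map (homOfPt (a := (AlgSt.ofSpMap (torsor y).φ.left).obj a) (torsor y) (pt a)
    (pt_map (torsor y).φ.left a).symm).base
  rw [← ptO_π, ptO_homOfPt]
  show (yon S).map (toU y a) ≫ _ = _
  rw [map_toU, torsorπ, Category.assoc, Category.assoc, ← Functor.map_comp, eqToHom_trans,
    eqToHom_refl, CategoryTheory.Functor.map_id]
  exact congrArg (pt a ≫ ·) (Category.comp_id _)

/-- The isomorphism of an object of the fibre. -/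
def fibreIso (a : (AlgSt.ofSp (torsor y).P.left).obj) :
    y.obj (Over.mk (toU y a)) ≅ trivAt aX ((AlgSt.ofSpMap (torsor y).φ.left).obj a) :=
  (exists_fibre_iso y a).choose

theorem fibreIso_vert (a : (AlgSt.ofSp (torsor y).P.left).obj) : IsVert (Q₀).p (fibreIso y a).hom :=
  (exists_fibre_iso y a).choose_spec.1

theorem fibreIso_comp (a : (AlgSt.ofSp (torsor y).P.left).obj) :
    (fibreIso y a).hom ≫
        homOfPt (a := (AlgSt.ofSpMap (torsor y).φ.left).obj a) (torsor y) (pt a) (pt_map (torsor y).φ.left a).symm =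
      y.map (toId (Over.mk (toU y a))) :=
  (exists_fibre_iso y a).choose_spec.2

theorem toId_comp_map {a b : (FibCat.overCat U).obj} (f : a ⟶ b) :
    y.map f ≫ y.map (toId b) = y.map (toId a) :=
  (y.toFunctor.map_comp _ _).symm.trans (congrArg y.map (Groth.StkBase.toId_naturality f))

theorem fibre_w {a b : (AlgSt.ofSp (torsor y).P.left).obj} (f : a ⟶ b)
    (m : Over.mk (toU y a) ⟶ Over.mk (toU y b)) (hm : m.left = f.hom) :
    y.map m ≫ (fibreIso y b).hom = (fibreIso y a).hom ≫
      (AlgSt.spQuotMap Scheme.fppfPrecoverage G aX).map ((AlgSt.ofSpMap (torsor y).φ.left).map f) := by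
  apply hom_eq_of_comp_eq (Groth.QuotStk.isFibGrpd_spQuotSt G aX)
    (homOfPt (a := (AlgSt.ofSpMap (torsor y).φ.left).obj b) (torsor y) (pt b) (pt_map (torsor y).φ.left b).symm)
  · show (y.map m).base ≫ (fibreIso y b).hom.base = (fibreIso y a).hom.base ≫ f.hom
    refine ((congrArg₂ (· ≫ ·) (map_map y m) (fibreIso_vert y b).map_eq).trans ?_).trans
      (congrArg (· ≫ f.hom) (fibreIso_vert y a).map_eq).symm
    rw [← hm]
    simp
    rfl
  · refine ((Category.assoc _ _ _).trans ((congrArg (y.map m ≫ ·) (fibreIso_comp y b)).trans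
      (toId_comp_map y m))).trans ((fibreIso_comp y a).symm.trans ?_)
    refine (congrArg ((fibreIso y a).hom ≫ ·) ?_).trans (Category.assoc _ _ _).symm
    refine hom_ext_of_ptO ?_
    rw [ptO_homOfPt, ptO_map_comp, ptO_homOfPt]
    exact (pt_comp f).symm

/-- The torsor maps to the fibre. -/
def fibreFunctor : AlgSt.ofSp (torsor y).P.left ⥤ᵇ
    FibCat.fp y (AlgSt.spQuotMap Scheme.fppfPrecoverage G aX) where
  toFunctor :=
    { obj := fun a => fpMk (F := y) (G := AlgSt.spQuotMap Scheme.fppfPrecoverage G aX) (Over.mk (toU y a))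
        ((AlgSt.ofSpMap (torsor y).φ.left).obj a) (fibreIso y a) (fibreIso_vert y a)
      map := fun {a b} f =>
        fpHom (Over.homMk f.hom (toU_comp y f)) ((AlgSt.ofSpMap (torsor y).φ.left).map f)
          (fibre_w y f _ rfl)
      map_id := fun a => fp_hom_ext (Over.OverMorphism.ext rfl) (Stk.EltObj.hom_ext rfl)
      map_comp := fun f g => fp_hom_ext (Over.OverMorphism.ext rfl) (Stk.EltObj.hom_ext rfl) }
  w := rfl

theorem isEquivOver_fibreFunctor : FibCat.IsEquivOver (fibreFunctor y) := by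
  refine Groth.StkBase.isEquivOver_of_fullyFaithful _ ⟨fun {a b} m => ?_⟩ ⟨fun {a b} f g h => ?_⟩ fun z => ?_
  · let k : a.base ⟶ b.base := m.hom.fst.left
    have hs : m.hom.snd.hom = k := (Groth.StkBase.fp_map_snd m).trans (by
      show eqToHom _ ≫ k ≫ eqToHom _ = k
      simp)
    have w : y.map m.hom.fst ≫ (fibreIso y b).hom =
        (fibreIso y a).hom ≫ (AlgSt.spQuotMap Scheme.fppfPrecoverage G aX).map m.hom.snd := m.hom.w
    have e : homOfPt (a := (AlgSt.ofSpMap (torsor y).φ.left).obj a) (torsor y) (pt a) (pt_map (torsor y).φ.left a).symm =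
        (AlgSt.spQuotMap Scheme.fppfPrecoverage G aX).map m.hom.snd ≫
          homOfPt (a := (AlgSt.ofSpMap (torsor y).φ.left).obj b) (torsor y) (pt b) (pt_map (torsor y).φ.left b).symm := by
      rw [← cancel_epi (fibreIso y a).hom, fibreIso_comp, ← Category.assoc, ← w, Category.assoc,
        fibreIso_comp]
      exact (toId_comp_map y m.hom.fst).symm
    have hk : (yon S).map k ≫ pt b = pt a := by
      have e' := congrArg (fun h => (ptO h).left) e
      simp only at e'
      rw [ptO_homOfPt, ptO_map_comp, ptO_homOfPt, hs] at e'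
      exact e'.symm
    exact ⟨Groth.StkBase.eltHom k (sec_of_pt k hk),
      fp_hom_ext (Over.OverMorphism.ext rfl) (Stk.EltObj.hom_ext hs.symm)⟩
  · exact Stk.EltObj.hom_ext (congrArg (fun m => m.hom.fst.left) h)
  · have hz : z.obj.snd.base = z.obj.fst.left := Groth.StkBase.fp_p_snd z
    let h : trivAt aX z.obj.snd ⟶ torsor y := z.obj.iso.inv ≫ y.map (toId z.obj.fst)
    let a : (AlgSt.ofSp (torsor y).P.left).obj := ⟨z.obj.snd.base, yEquiv (ptO h).left⟩
    have ha : pt a = (ptO h).left := Equiv.symm_apply_apply _ _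
    have hbase : h.base = eqToHom hz ≫ z.obj.fst.hom ≫ eqToHom (torsor_base y).symm := by
      show z.obj.iso.inv.base ≫ (y.map (toId z.obj.fst)).base = _
      rw [map_toId_base]
      have : z.obj.iso.inv.base = eqToHom _ := (Groth.StkBase.IsVert.inv (fp_isVert z)).map_eq
      rw [this]
      simp
    have e₁ : toU y a = eqToHom hz ≫ z.obj.fst.hom := (yon S).map_injective (by
      rw [map_toU, ha, torsorπ, ← Category.assoc, ptO_π, hbase, ← Functor.map_comp]
      simp)
    have e₂ : pt a ≫ (torsor y).φ.left = pt z.obj.snd := by rw [ha]; exact ptO_φ h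
    let ifst : Over.mk (toU y a) ≅ z.obj.fst := Over.isoMk (eqToIso hz) e₁.symm
    have hsec₁ : X.left.obj.map (𝟙 a.base).op z.obj.snd.sec = ((AlgSt.ofSpMap (torsor y).φ.left).obj a).sec :=
      sec_of_pt (a := (AlgSt.ofSpMap (torsor y).φ.left).obj a) (a' := z.obj.snd) (𝟙 _)
        (by rw [pt_map, e₂]; exact (congrArg (· ≫ _) ((yon S).map_id _)).trans (Category.id_comp _))
    have hsec₂ : X.left.obj.map (𝟙 a.base).op ((AlgSt.ofSpMap (torsor y).φ.left).obj a).sec = z.obj.snd.sec :=
      sec_of_pt (a := z.obj.snd) (a' := (AlgSt.ofSpMap (torsor y).φ.left).obj a) (𝟙 _)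
        (by rw [pt_map, e₂]; exact (congrArg (· ≫ _) ((yon S).map_id _)).trans (Category.id_comp _))
    let isnd : (AlgSt.ofSpMap (torsor y).φ.left).obj a ≅ z.obj.snd :=
      { hom := Groth.StkBase.eltHom (𝟙 _) hsec₁
        inv := Groth.StkBase.eltHom (𝟙 _) hsec₂
        hom_inv_id := Stk.EltObj.hom_ext (Category.id_comp _)
        inv_hom_id := Stk.EltObj.hom_ext (Category.id_comp _) }
    have hw : y.map ifst.hom ≫ z.obj.iso.hom =
        (fibreIso y a).hom ≫ (AlgSt.spQuotMap Scheme.fppfPrecoverage G aX).map isnd.hom := by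
      apply hom_eq_of_comp_eq (Groth.QuotStk.isFibGrpd_spQuotSt G aX) h
      · show (y.map ifst.hom).base ≫ z.obj.iso.hom.base = (fibreIso y a).hom.base ≫ 𝟙 _
        refine ((congrArg₂ (· ≫ ·) (map_map y ifst.hom) (fp_isVert z).map_eq).trans ?_).trans
          (congrArg (· ≫ 𝟙 _) (fibreIso_vert y a).map_eq).symm
        rw [show (FibCat.overCat U).p.map ifst.hom = eqToHom hz from rfl]
        simp
      · refine ((Category.assoc _ _ _).trans (congrArg (_ ≫ ·) (z.obj.iso.hom_inv_id_assoc _))).trans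
          ((toId_comp_map y ifst.hom).trans ((fibreIso_comp y a).symm.trans ?_))
        refine (congrArg ((fibreIso y a).hom ≫ ·) ?_).trans (Category.assoc _ _ _).symm
        refine hom_ext_of_ptO ?_
        rw [ptO_homOfPt, ptO_map_comp, ha]
        exact ((congrArg (· ≫ _) ((yon S).map_id _)).trans (Category.id_comp _)).symm
    refine ⟨a, fpObjIso ifst isnd hw, hz, ?_⟩
    show ifst.hom.left = _
    simp [ifst]

theorem spMapOfOver_fibreFunctor :
    AlgSt.spMapOfOver (BasedFunctor.comp (fibreFunctor y) (FibCat.fpFst y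
      (AlgSt.spQuotMap Scheme.fppfPrecoverage G aX))) = torsorπ y := by
  apply Sheaf.hom_ext
  ext T x
  refine (AlgSt.spMapOfOver_app _ T.unop x).trans ?_
  let a : (AlgSt.ofSp (torsor y).P.left).obj := ⟨T.unop, x⟩
  have h : (J S).uliftYonedaEquiv ((yon S).map (toU y a)) = (J S).uliftYonedaEquiv (pt a ≫ torsorπ y) :=
    congrArg _ (map_toU y a)
  rw [(J S).uliftYonedaEquiv_comp, Equiv.apply_symm_apply] at h
  refine Eq.trans ?_ h
  apply ULift.ext
  show 𝟙 _ ≫ toU y a = 𝟙 _ ≫ toU y a
  rfl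

end Fibre

end

end Groth.StkBG
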