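import Groth.Agent.StkBG.SpQuotMap
import Groth.Agent.StkBG.LocCover
import Groth.Agent.AlgSp2.SigmaGlue

/-!
# Torsors under a group algebraic space are algebraic spaces
-/

set_option autoImplicit false
set_option backward.isDefEq.respectTransparency false
set_option backward.isDefEq.respectTransparency.types false
universe u

open CategoryTheory CategoryTheory.Limits AlgebraicGeometry Opposite AlgSp MonoidalCategory CartesianMonoidalCategory
open Groth.StkBase (IsVert idObj toId fpMk fp_isVert)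
open scoped CategoryTheory.Obj

namespace Groth.StkBG

open Groth.AlgSpBasic (yEquiv)

variable {S : Scheme.{u}}

/-- A map with sections locally has a section over a single cover. -/
theorem exists_cov_section {T : Over S} {P : Sp S} {π : P ⟶ (yon S).obj T}
    (h : AlgSt.HasSecLoc Scheme.fppfPrecoverage π) :
    ∃ (T' : Over S) (j : T' ⟶ T) (s : (yon S).obj T' ⟶ P), IsCov j ∧ s ≫ π = (yon S).map j := by
  obtain ⟨C, hC, h'⟩ := h
  obtain ⟨ι, Z, g, rfl⟩ := C.exists_eq_ofArrows
  obtain ⟨hsurj, hfl⟩ := (Scheme.ofArrows_mem_precoverage_iff _).1 hC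
  choose i z hz using hsurj
  let V : ↥T.left → Over S := fun x => Over.mk (g (i x) ≫ T.hom)
  let f : ∀ x, V x ⟶ T := fun x => Over.homMk (g (i x))
  choose s hs using fun x => h' (g (i x)) ⟨i x⟩
  obtain ⟨y, hy, -⟩ := Groth.AlgSp2.exists_glue V fun x => (yon S).map (f x)
  obtain ⟨j, rfl⟩ := (yon S).map_surjective y
  obtain ⟨σ, hσ, -⟩ := Groth.AlgSp2.exists_glue V s
  have hj : ∀ x, Groth.AlgSp2.sigmaIncl V x ≫ j = f x := fun x =>
    (yon S).map_injective (((yon S).map_comp _ _).trans (hy x))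
  have hjl : ∀ x, (sigmaOpenCover fun x => (V x).left).f x ≫ j.left = g (i x) := fun x =>
    congrArg (·.left) (hj x)
  refine ⟨_, j, σ, ⟨?_, ?_, ⟨fun x => ?_⟩⟩, Groth.AlgSp2.sigma_hom_ext V fun x => ?_⟩
  · refine IsZariskiLocalAtSource.of_openCover (P := @Flat) (sigmaOpenCover fun x => (V x).left) fun x => ?_
    rw [hjl]
    exact (hfl (i x)).1
  · refine IsZariskiLocalAtSource.of_openCover (P := @LocallyOfFinitePresentation)
      (sigmaOpenCover fun x => (V x).left) fun x => ?_
    rw [hjl]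
    exact (hfl (i x)).2
  · refine ⟨(Groth.AlgSp2.sigmaIncl V x).left (z x), ?_⟩
    rw [← Scheme.Hom.comp_apply]
    exact (congrArg (fun m => m (z x)) (hjl x)).trans (hz x)
  · rw [← Category.assoc, hσ x, ← Functor.map_comp, hj x]
    exact hs x

variable {B : Sp S} {G : Over B} [GrpObj G] {X : Over B} {aX : GAction G X}

local notation "QS" => AlgSt.SpQuotObj Scheme.fppfPrecoverage G aX

/-- After a cover the torsor is trivial. -/
theorem exists_cov_pullback (A : QS) :
    ∃ (T' : Over S) (j : T' ⟶ A.base) (b' : (yon S).obj T' ⟶ B) (top : pullback G.hom b' ⟶ A.P.left),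
      IsCov j ∧ IsPullback top (pullback.snd G.hom b') A.π.left ((yon S).map j) := by
  obtain ⟨T', j, s, hj, hs⟩ := exists_cov_section A.loc
  let σ : Over.mk (s ≫ A.P.hom) ⟶ A.P := Over.homMk s rfl
  have h := Groth.QuotStk.isPullback_left' ((AlgSt.isPullback_whiskerLeft' (G := G) σ).paste_horiz A.cart)
  have e : (σ ≫ A.π).left = (yon S).map j := hs
  rw [e] at h
  exact ⟨T', j, s ≫ A.P.hom, _, hj, h⟩

theorem isAlgSpace_P (hB : IsAlgSpace B) (hG : IsAlgSpace G.left) (A : QS) : IsAlgSpace A.P.left := by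
  obtain ⟨T', j, b', top, hj, sq⟩ := exists_cov_pullback A
  exact isAlgSpace_of_cover hj A.π.left
    ((Groth.AlgSpBasic.isAlgSpace_of_isPullback (IsPullback.of_hasPullback G.hom b') hB.diag hG
      (IsAlgSpace.yon_obj T')).of_iso (sq.isoIsPullback _ _ (IsPullback.of_hasPullback _ _)))

theorem prop_π (hB : IsAlgSpace B) (hG : IsAlgSpace G.left) {P : MorphismProperty (Sp S)}
    [P.IsStableUnderBaseChange] (hloc : IsLocalOnBase IsFppfCover P) (hP : P G.hom) (A : QS) :
    P A.π.left := by
  obtain ⟨T', j, b', top, hj, sq⟩ := exists_cov_pullback A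
  refine (hloc (fun _ : PUnit.{u + 1} => (yon S).obj T') (fun _ => (yon S).map j)
    (IsAlgSpace.yon_obj A.base) (fun _ => IsAlgSpace.yon_obj _) ?_ A.π.left (isAlgSpace_P hB hG A)
    (fun _ => pullback G.hom b') (fun _ => pullback.snd _ _)
    (fun _ => top) (fun _ => Groth.AlgSpBasic.isAlgSpace_of_isPullback
      (IsPullback.of_hasPullback G.hom b') hB.diag hG (IsAlgSpace.yon_obj T'))
    (fun _ => sq)).2 fun _ => P.pullback_snd _ _ hP
  refine ⟨fun _ => ⟨Groth.AlgSpBasic.locP_of_repWith ((repWith_yon_map_iff _ _).2 hj.flat),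
    Groth.AlgSpBasic.locP_of_repWith ((repWith_yon_map_iff _ _).2 hj.lfp)⟩, fun x => ?_⟩
  exact ⟨PUnit.unit, Groth.AlgSpBasic.surjective_map_of_repWith ((repWith_yon_map_iff _ _).2 hj.surj) x⟩

variable (aX) in
/-- The canonical map to a quotient stack has every property of the group which is stable under base
change and fppf local on the base. -/
theorem repWith_spQuotMap (hB : IsAlgSpace B) (hG : IsAlgSpace G.left) {P : MorphismProperty (Sp S)}
    [P.IsStableUnderBaseChange] (hloc : IsLocalOnBase IsFppfCover P) (hP : P G.hom) :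
    AlgSt.RepByAlgSpWith P (AlgSt.spQuotMap Scheme.fppfPrecoverage G aX) := fun U y => by
  refine ⟨⟨(torsor y).P.left, isAlgSpace_P hB hG _⟩, fibreFunctor y, isEquivOver_fibreFunctor y, ?_⟩
  show P (AlgSt.spMapOfOver (BasedFunctor.comp (fibreFunctor y) (FibCat.fpFst y
      (AlgSt.spQuotMap Scheme.fppfPrecoverage G aX))))
  rw [spMapOfOver_fibreFunctor]
  have : P.RespectsIso := MorphismProperty.IsStableUnderBaseChange.respectsIso
  exact (P.cancel_right_of_respectsIso _ _).2 (prop_π hB hG hloc hP _)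

variable (aX) in
theorem repByAlgSp1_spQuotMap (hB : IsAlgSpace B) (hG : IsAlgSpace G.left) :
    AlgSt.RepByAlgSp1 (AlgSt.spQuotMap Scheme.fppfPrecoverage G aX) := fun U y =>
  ⟨⟨(torsor y).P.left, isAlgSpace_P hB hG _⟩, fibreFunctor y, isEquivOver_fibreFunctor y⟩

variable (aX) in
/-- Objects of a quotient stack come locally from the canonical map. -/
theorem covLift_spQuotMap : CovLift (AlgSt.spQuotMap Scheme.fppfPrecoverage G aX) := by
  intro U y
  obtain ⟨T', j₀, s, hj, hs⟩ := exists_cov_section (torsor y).loc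
  let a : (AlgSt.ofSp (torsor y).P.left).obj := ⟨T', yEquiv s⟩
  have ha : pt a = s := Equiv.symm_apply_apply _ _
  let j : T' ⟶ U := j₀ ≫ eqToHom (torsor_base y)
  have hja : toU y a = j := (yon S).map_injective (by
    rw [map_toU, ha, torsorπ, ← Category.assoc, hs, ← Functor.map_comp])
  have hjc : IsCov j := by
    have : IsIso (eqToHom (torsor_base y)).left := inferInstance
    obtain ⟨h₁, h₂, h₃⟩ := hj
    exact ⟨inferInstanceAs (Flat (j₀.left ≫ _)), inferInstanceAs (LocallyOfFinitePresentation (j₀.left ≫ _)),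
      inferInstanceAs (Surjective (j₀.left ≫ _))⟩
  let w : FibCat.overCat T' ⥤ᵇ AlgSt.ofSp X.left :=
    BasedFunctor.comp (AlgSt.ofOverCat T') (AlgSt.ofSpMap (s ≫ (torsor y).φ.left))
  refine ⟨T', j, w, hjc, (Groth.StkBase.nonempty_overIso_iff
    (Groth.QuotStk.isFibGrpd_spQuotSt G aX) _ _).2 ?_⟩
  have e₁ : w.obj (idObj T') = (AlgSt.ofSpMap (torsor y).φ.left).obj a := rfl
  have e₂ : (AlgSt.overMap j).obj (idObj T') = Over.mk (toU y a) := by
    show Over.mk (𝟙 T' ≫ j) = _
    rw [Category.id_comp, hja]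
  refine ⟨eqToHom (congrArg (fun o => (AlgSt.spQuotMap Scheme.fppfPrecoverage G aX).obj o) e₁) ≫
    (fibreIso y a).inv ≫ eqToHom (congrArg (fun o => y.obj o) e₂).symm, ?_⟩
  exact (Groth.StkBase.isVert_eqToHom _).comp
    ((Groth.StkBase.IsVert.inv (fibreIso_vert y a)).comp (Groth.StkBase.isVert_eqToHom _))

end Groth.StkBG
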